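import Mathlib
import Cfsg.Agent.Lib.Helper1.TFpf3
import Cfsg.Agent.S0659
import Cfsg.Agent.Lib.Helper98.FW.Main

set_option autoImplicit false
set_option linter.unusedSectionVars false

/-!
# Kernels of Frobenius-like groups are nilpotent (Thompson), and the fixed point formula
-/

namespace Cfsg.Agent.Lib.Helper98.FW

open Subgroup

variable {X : Type*} [Group X] [Finite X]

theorem isNilpotent_of_fpf (U E : Subgroup X) (hE1 : E ≠ ⊥)
    (hEU : E ≤ normalizer (U : Set X))
    (hfpf : ∀ e ∈ E, e ≠ 1 → ∀ u ∈ U, e * u = u * e → u = 1) : Group.IsNilpotent U := by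
  have hH1 : Nat.card E ≠ 1 := fun h => hE1 (Subgroup.card_eq_one.mp h)
  obtain ⟨p, hp, hpd⟩ := Nat.exists_prime_and_dvd hH1
  have := Fact.mk hp
  obtain ⟨h, hh⟩ := exists_prime_orderOf_dvd_card' (G := E) p hpd
  have hh' : orderOf (h : X) = p := by rw [Subgroup.orderOf_coe, hh]
  have hh1 : (h : X) ≠ 1 := by
    intro h0
    rw [h0, orderOf_one] at hh'
    exact hp.one_lt.ne hh'
  let g : ↥(normalizer (U : Set X)) := ⟨h.1, hEU h.2⟩
  let φ : U →* U := (U.normalizerMonoidHom g).toMonoidHom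
  have hφ : ∀ x : U, ((φ x : U) : X) = h * x * (h : X)⁻¹ := fun _ => rfl
  apply Cfsg.Agent.Lib.Helper1.thompson_fpf (fun X _ _ q _ hq P h => Cfsg.Agent.S0659.result hq P h) hp φ
  · intro x hx
    have h1 := congrArg Subtype.val hx
    rw [hφ] at h1
    exact Subtype.ext (hfpf h.1 h.2 hh1 x.1 x.2 (mul_inv_eq_iff_eq_mul.mp h1))
  · have h2 : ∀ (n : ℕ) (x : U), φ^[n] x = U.normalizerMonoidHom (g ^ n) x := by
      intro n
      induction n with
      | zero => intro x; simp
      | succ n ih =>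
        intro x
        rw [Function.iterate_succ_apply', ih, pow_succ', map_mul]
        rfl
    have hg : g ^ p = 1 := by
      apply Subtype.ext
      change (h : X) ^ p = 1
      rw [← hh', pow_orderOf_eq_one]
    funext x
    rw [h2, hg, map_one]
    rfl

/-- The Frobenius--Wielandt fixed point formula. -/
theorem fw_formula' (U E : Subgroup X) (hE1 : E ≠ ⊥)
    (hEU : E ≤ normalizer (U : Set X))
    (hfpf : ∀ e ∈ E, e ≠ 1 → ∀ u ∈ U, e * u = u * e → u = 1) (H : Subgroup X)
    (hAH : U ⊔ E ≤ normalizer (H : Set X)) (hsolv : Group.IsSolvable H)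
    (hcop : (Nat.card H).Coprime (Nat.card ↥(U ⊔ E))) :
    Nat.card ↥(H ⊓ centralizer ((U ⊔ E : Subgroup X) : Set X)) ^ Nat.card E * Nat.card H
      = Nat.card ↥(H ⊓ centralizer (E : Set X)) ^ Nat.card E
        * Nat.card ↥(H ⊓ centralizer (U : Set X)) :=
  fw_formula U E hEU (isNilpotent_of_fpf U E hE1 hEU hfpf) hfpf H hAH hsolv hcop

end Cfsg.Agent.Lib.Helper98.FW
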