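import Mathlib
import Cfsg.Agent.Lib.Helper98.FW.AbsComm
import Cfsg.Agent.Lib.Helper98.FW.Thompson

set_option autoImplicit false
set_option linter.unusedSectionVars false
set_option linter.style.haveILetI false

/-!
# Cyclic fixed points of the complement: the derived group of the kernel acts trivially
-/

namespace Cfsg.Agent.Lib.Helper98.FW

open Subgroup
open scoped commutatorElement

variable {X : Type*} [Group X] [Finite X]

theorem exists_lift_fix (H N : Subgroup X) [hn : (N.subgroupOf H).Normal] (hNH : N ≤ H)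
    {B : Subgroup X} (hBD : B ≤ Dn H N)
    (hcop : (Nat.card B).Coprime (Nat.card H)) (hsolv : Group.IsSolvable B ∨ Group.IsSolvable H)
    (v : H ⧸ N.subgroupOf H) (hv : ∀ (b : X) (hb : b ∈ B), act H N ⟨b, hBD hb⟩ v = v) :
    ∃ c : ↥(H ⊓ centralizer (B : Set X)), ((⟨c.1, c.2.1⟩ : H) : H ⧸ N.subgroupOf H) = v := by
  induction v using QuotientGroup.induction_on with
  | H h =>
    obtain ⟨n, hn, hc⟩ := Cfsg.Agent.Lib.Helper30.exists_mem_centralizer_of_coset (A := B) (K := H) (N := N)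
      (fun b hb => (hBD hb).1) hcop hsolv hNH (fun b hb => (hBD hb).2) h.2
      (fun a ha => (act_mk_eq_iff H N ⟨a, hBD ha⟩ h).1 (hv a ha))
    refine ⟨⟨(h : X) * n, H.mul_mem h.2 (hNH hn), hc⟩, ?_⟩
    rw [eq_comm, QuotientGroup.eq, mem_subgroupOf]
    simpa using hn

theorem derived_step (U E H N : Subgroup X)
    (hEU : E ≤ normalizer (U : Set X)) (hnil : Group.IsNilpotent U)
    (hfpf : ∀ e ∈ E, e ≠ 1 → ∀ u ∈ U, e * u = u * e → u = 1)
    (hNH : N ≤ H) (hcomm : ⁅H, H⁆ ≤ N)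
    (hAH : U ⊔ E ≤ normalizer (H : Set X)) (hAN : U ⊔ E ≤ normalizer (N : Set X))
    (hcop : (Nat.card H).Coprime (Nat.card ↥(U ⊔ E)))
    (hsolv : Group.IsSolvable H)
    (hmax : ∀ M : Subgroup X, N ≤ M → M ≤ H → U ⊔ E ≤ normalizer (M : Set X) → M = N ∨ M = H)
    (hcyc : IsCyclic ↥(H ⊓ centralizer (E : Set X)))
    (hIH : ⁅U, U⁆ ≤ centralizer (N : Set X)) :
    ⁅U, U⁆ ≤ centralizer (H : Set X) := by
  have hHN : H ≤ normalizer (N : Set X) := by
    apply le_normalizer_of_conj_mem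
    intro h hh n hn
    have h1 : ⁅h, n⁆ ∈ N := hcomm (commutator_mem_commutator hh (hNH hn))
    have h2 : h * n * h⁻¹ = ⁅h, n⁆ * n := by
      rw [commutatorElement_def]; group
    rw [h2]
    exact N.mul_mem h1 hn
  haveI hn : (N.subgroupOf H).Normal := (normal_subgroupOf_iff_le_normalizer hNH).2 hHN
  have hAD : U ⊔ E ≤ Dn H N := le_inf hAH hAN
  have hUD : U ≤ Dn H N := le_sup_left.trans hAD
  have hED : E ≤ Dn H N := le_sup_right.trans hAD
  have hUA : U ≤ U ⊔ E := le_sup_left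
  have hEA : E ≤ U ⊔ E := le_sup_right
  haveI hUn : (U.subgroupOf (U ⊔ E)).Normal :=
    (normal_subgroupOf_iff_le_normalizer hUA).2 (sup_le le_normalizer hEU)
  have hnil' : Group.IsNilpotent ↥(U.subgroupOf (U ⊔ E)) :=
    Group.nilpotent_of_mulEquiv (subgroupOfEquivOfLe hUA).symm
  have hc : ∀ a b : H ⧸ N.subgroupOf H, a * b = b * a := by
    intro a b
    induction a using QuotientGroup.induction_on with
    | H a =>
      induction b using QuotientGroup.induction_on with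
      | H b =>
        rw [← QuotientGroup.mk_mul, ← QuotientGroup.mk_mul, QuotientGroup.eq, mem_subgroupOf]
        have h1 : ⁅(b : X)⁻¹, (a : X)⁻¹⁆ ∈ N :=
          hcomm (commutator_mem_commutator (H.inv_mem b.2) (H.inv_mem a.2))
        have h2 : (((a * b)⁻¹ * (b * a) : H) : X) = ⁅(b : X)⁻¹, (a : X)⁻¹⁆ := by
          rw [commutatorElement_def]
          simp only [Subgroup.coe_mul, Subgroup.coe_inv, mul_inv_rev, inv_inv]
          group
        rw [h2]
        exact h1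
  let φ : ↥(U ⊔ E) →* MulAut (H ⧸ N.subgroupOf H) := (act H N).comp (inclusion hAD)
  have hφ : ∀ (g : X) (hg : g ∈ U ⊔ E), φ ⟨g, hg⟩ = act H N ⟨g, hAD hg⟩ := fun _ _ => rfl
  have hq := card_quot_mul H N hNH
  have hcopQ : (Nat.card (H ⧸ N.subgroupOf H)).Coprime (Nat.card ↥(U ⊔ E)) :=
    Nat.Coprime.coprime_dvd_left (Dvd.intro _ hq) hcop
  have hcopA : (Nat.card ↥(U ⊔ E)).Coprime (Nat.card H) := hcop.symm
  have hcopU : (Nat.card U).Coprime (Nat.card H) :=
    Nat.Coprime.coprime_dvd_left (card_dvd_of_le hUA) hcopA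
  have hcopE : (Nat.card E).Coprime (Nat.card H) :=
    Nat.Coprime.coprime_dvd_left (card_dvd_of_le hEA) hcopA
  obtain ⟨c₀, hc₀⟩ := hcyc.exists_generator
  have key := abs_comm' hc (U.subgroupOf (U ⊔ E)) (E.subgroupOf (U ⊔ E)) hnil'
    (by
      intro e he he1 u hu heu
      have := hfpf e.1 (mem_subgroupOf.1 he) (fun h => he1 (Subtype.ext h)) u.1
        (mem_subgroupOf.1 hu) (congrArg Subtype.val heu)
      exact Subtype.ext this)
    φ hcopQ
    (by
      intro S hS
      have h1 : U ⊔ E ≤ normalizer (pre H N S : Set X) :=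
        le_normalizer_pre H N hAD S (fun b hb v hv => hS ⟨b, hb⟩ v hv)
      rcases hmax (pre H N S) (le_pre H N hNH S) (pre_le H N S) h1 with h2 | h2
      · exact Or.inl (pre_eq_left_iff H N hNH S h2)
      · exact Or.inr (pre_eq_right_iff H N S h2))
    ((⟨c₀.1, c₀.2.1⟩ : H) : H ⧸ N.subgroupOf H)
    (by
      intro v hv
      obtain ⟨c, rfl⟩ := exists_lift_fix H N hNH hED hcopE (Or.inr hsolv) v
        (fun b hb => hv ⟨b, hEA hb⟩ (mem_subgroupOf.2 hb))
      obtain ⟨k, hk⟩ := Subgroup.mem_zpowers_iff.1 (hc₀ c)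
      rw [Subgroup.mem_zpowers_iff]
      refine ⟨k, ?_⟩
      rw [← QuotientGroup.mk_zpow]
      congr 1
      apply Subtype.ext
      rw [← hk]
      simp)
  -- the derived group acts trivially
  have hBU : ⁅U, U⁆ ≤ U := commutator_le.2 (fun a ha b hb =>
      U.mul_mem (U.mul_mem (U.mul_mem ha hb) (U.inv_mem ha)) (U.inv_mem hb))
  have hBD : ⁅U, U⁆ ≤ Dn H N := hBU.trans hUD
  have htriv : ⁅U, U⁆ ≤ ((act H N).ker).map (Dn H N).subtype := by
    rw [commutator_le]
    intro a ha b hb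
    refine ⟨⁅(⟨a, hUD ha⟩ : Dn H N), ⟨b, hUD hb⟩⁆, ?_, rfl⟩
    change _ ∈ (act H N).ker
    rw [MonoidHom.mem_ker, map_commutatorElement, commutatorElement_eq_one_iff_mul_comm]
    exact key ⟨a, hUA ha⟩ (mem_subgroupOf.2 ha) ⟨b, hUA hb⟩ (mem_subgroupOf.2 hb)
  have htriv' : ∀ (b : X) (hb : b ∈ ⁅U, U⁆), act H N ⟨b, hBD hb⟩ = 1 := by
    intro b hb
    obtain ⟨d, hd, hdb⟩ := htriv hb
    have : d = ⟨b, hBD hb⟩ := Subtype.ext hdb
    rw [← this]
    exact hd
  have hcopB : (Nat.card ↥⁅U, U⁆).Coprime (Nat.card H) :=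
    Nat.Coprime.coprime_dvd_left (card_dvd_of_le hBU) hcopU
  have fB := card_fix_mul H N hNH hBD hcopB (Or.inr hsolv)
  have c1 : Nat.card {v : H ⧸ N.subgroupOf H // ∀ (b : X) (hb : b ∈ ⁅U, U⁆), act H N ⟨b, hBD hb⟩ v = v}
      = Nat.card (H ⧸ N.subgroupOf H) :=
    Nat.card_congr ⟨fun v => v.1, fun v => ⟨v, fun b hb => by rw [htriv' b hb, MulAut.one_apply]⟩,
      fun _ => rfl, fun _ => rfl⟩
  have c2 : N ⊓ centralizer ((⁅U, U⁆ : Subgroup X) : Set X) = N :=
    inf_eq_left.2 (le_centralizer_iff.1 hIH)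
  rw [c1, c2, hq] at fB
  have h3 : H ⊓ centralizer ((⁅U, U⁆ : Subgroup X) : Set X) = H :=
    eq_of_le_of_card_ge inf_le_left fB.le
  exact le_centralizer_iff.1 (inf_eq_left.1 h3)

/-- If the fixed points of the complement on `H` are cyclic then the derived group of the kernel
centralizes `H`. -/
theorem fw_derived (U E : Subgroup X)
    (hEU : E ≤ normalizer (U : Set X)) (hnil : Group.IsNilpotent U)
    (hfpf : ∀ e ∈ E, e ≠ 1 → ∀ u ∈ U, e * u = u * e → u = 1) (H : Subgroup X)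
    (hAH : U ⊔ E ≤ normalizer (H : Set X)) (hsolv : Group.IsSolvable H)
    (hcop : (Nat.card H).Coprime (Nat.card ↥(U ⊔ E)))
    (hcyc : IsCyclic ↥(H ⊓ centralizer (E : Set X))) :
    ⁅U, U⁆ ≤ centralizer (H : Set X) := by
  obtain ⟨k, hk⟩ : ∃ k, Nat.card H = k := ⟨_, rfl⟩
  induction k using Nat.strong_induction_on generalizing H with
  | _ k ih =>
    by_cases hH : H = ⊥
    · subst hH
      intro x _
      rw [mem_centralizer_iff]
      intro y hy
      have hy1 : y = 1 := hy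
      rw [hy1, one_mul, mul_one]
    have hnt : Nontrivial H := (nontrivial_iff_ne_bot H).2 hH
    have hder : ⁅H, H⁆ ≠ H := by
      intro h
      have h1 := Group.IsSolvable.commutator_lt_top_of_nontrivial H
      have h2 : (commutator H).map H.subtype = ⁅H, H⁆ := by
        rw [_root_.commutator_def, map_commutator, ← MonoidHom.range_eq_map, H.range_subtype]
      apply h1.ne
      apply Subgroup.map_injective H.subtype_injective
      rw [h2, h, ← MonoidHom.range_eq_map, H.range_subtype]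
    have hderle : ⁅H, H⁆ ≤ H := commutator_le.2 (fun a ha b hb =>
      H.mul_mem (H.mul_mem (H.mul_mem ha hb) (H.inv_mem ha)) (H.inv_mem hb))
    obtain ⟨N, hN, hNmax⟩ := (Set.toFinite {M : Subgroup X | ⁅H, H⁆ ≤ M ∧ M ≤ H ∧ M ≠ H ∧
      U ⊔ E ≤ normalizer (M : Set X)}).exists_maximal
        ⟨⁅H, H⁆, le_rfl, hderle, hder, Cfsg.Agent.Lib.Helper30.le_normalizer_commutator hAH hAH⟩
    obtain ⟨hN1, hN2, hN3, hN4⟩ := hN
    have hlt : Nat.card N < Nat.card H := by
      apply lt_of_le_of_ne (card_le_of_le hN2)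
      intro h
      exact hN3 (eq_of_le_of_card_ge hN2 h.ge)
    have hsolvN : Group.IsSolvable N :=
      Group.isSolvable_of_isSolvable_injective (inclusion_injective hN2)
    have hcopN : (Nat.card N).Coprime (Nat.card ↥(U ⊔ E)) :=
      Nat.Coprime.coprime_dvd_left (card_dvd_of_le hN2) hcop
    have hcycN : IsCyclic ↥(N ⊓ centralizer (E : Set X)) :=
      isCyclic_of_injective (inclusion (inf_le_inf_right _ hN2)) (inclusion_injective _)
    refine derived_step U E H N hEU hnil hfpf hN2 hN1 hAH hN4 hcop hsolv ?_ hcyc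
      (ih (Nat.card N) (hk ▸ hlt) N hN4 hsolvN hcopN hcycN rfl)
    intro M hNM hMH hAM
    by_cases hM : M = H
    · exact Or.inr hM
    · left
      exact le_antisymm (hNmax ⟨hN1.trans hNM, hMH, hM, hAM⟩ hNM) hNM

/-- the same with Thompson's theorem built in -/
theorem fw_derived' (U E : Subgroup X) (hE1 : E ≠ ⊥)
    (hEU : E ≤ normalizer (U : Set X))
    (hfpf : ∀ e ∈ E, e ≠ 1 → ∀ u ∈ U, e * u = u * e → u = 1) (H : Subgroup X)
    (hAH : U ⊔ E ≤ normalizer (H : Set X)) (hsolv : Group.IsSolvable H)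
    (hcop : (Nat.card H).Coprime (Nat.card ↥(U ⊔ E)))
    (hcyc : IsCyclic ↥(H ⊓ centralizer (E : Set X))) :
    ⁅U, U⁆ ≤ centralizer (H : Set X) :=
  fw_derived U E hEU (isNilpotent_of_fpf U E hE1 hEU hfpf) hfpf H hAH hsolv hcop hcyc

end Cfsg.Agent.Lib.Helper98.FW
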