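import Mathlib
import Cfsg.Agent.Lib.Helper98.FW.AbsTrace
import Cfsg.Agent.Lib.Helper98.FW.Thompson

set_option autoImplicit false
set_option linter.unusedSectionVars false
set_option linter.style.haveILetI false

/-!
# Elements of larger order in the coset `H x`
-/

namespace Cfsg.Agent.Lib.Helper98.FW

open Subgroup
open scoped commutatorElement

/-- `abs_exists_prod_ne_one` for a group which happens to be commutative -/
theorem abs_exists_prod_ne_one' {Γ : Type*} [Group Γ] [Finite Γ] {Q : Type*} [Group Q] [Finite Q]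
    (hc : ∀ a b : Q, a * b = b * a)
    (U : Subgroup Γ) [hUn : U.Normal] (x : Γ) (hnil : Group.IsNilpotent U)
    (hfpf : ∀ e ∈ zpowers x, e ≠ 1 → ∀ u ∈ U, e * u = u * e → u = 1)
    (φ : Γ →* MulAut Q) (hcop : (Nat.card Q).Coprime (Nat.card U))
    (hirr : ∀ S : Subgroup Q, (∀ g : Γ, ∀ v ∈ S, φ g v ∈ S) → S = ⊥ ∨ S = ⊤)
    (hU : ∃ u ∈ U, φ u ≠ 1) :
    ∃ v : Q, ((List.range (orderOf x)).map (fun j => φ (x ^ j) v)).prod ≠ 1 := by
  classical
  letI : CommGroup Q := { ‹Group Q› with mul_comm := hc }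
  have := Fintype.ofFinite (zpowers x)
  obtain ⟨v, hv⟩ := abs_exists_prod_ne_one U (zpowers x) hnil hfpf φ hcop hirr hU
  refine ⟨v, ?_⟩
  intro h
  apply hv
  rw [← Fintype.prod_equiv (finEquivZPowers (isOfFinOrder_of_finite x))
    (fun j : Fin (orderOf x) => φ (x ^ (j : ℕ)) v) (fun e : zpowers x => φ (e : Γ) v)
    (fun j => by rw [finEquivZPowers_apply])]
  rw [Fin.prod_univ_eq_prod_range (fun j => φ (x ^ j) v) (orderOf x), Finset.prod_range]
  rw [← h, ← List.prod_ofFn]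
  congr 1
  apply List.ext_getElem
  · simp
  · intro i h1 h2
    simp

variable {X : Type*} [Group X] [Finite X]

theorem exists_mul_pow_ne_one (U H : Subgroup X) (x : X)
    (hxU : x ∈ normalizer (U : Set X)) (hnil : Group.IsNilpotent U)
    (hfpf : ∀ e ∈ zpowers x, e ≠ 1 → ∀ u ∈ U, e * u = u * e → u = 1)
    (hUH : U ≤ normalizer (H : Set X)) (hxH : x ∈ normalizer (H : Set X))
    (hsolv : Group.IsSolvable H) (hcop : (Nat.card H).Coprime (Nat.card U))
    (hnc : ¬ U ≤ centralizer (H : Set X)) :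
    ∃ h ∈ H, (h * x) ^ orderOf x ≠ 1 := by
  classical
  set E := zpowers x with hE
  have hEU : E ≤ normalizer (U : Set X) := by
    rw [hE, zpowers_le]; exact hxU
  have hEH : E ≤ normalizer (H : Set X) := by
    rw [hE, zpowers_le]; exact hxH
  have hAH : U ⊔ E ≤ normalizer (H : Set X) := sup_le hUH hEH
  have hAU : U ⊔ E ≤ normalizer (U : Set X) := sup_le le_normalizer hEU
  set H₁ := ⁅H, U⁆ with hH₁
  have hH₁H : H₁ ≤ H := Cfsg.Agent.Lib.Helper30.commutator_le_of_le_normalizer hUH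
  have hAH₁ : U ⊔ E ≤ normalizer (H₁ : Set X) :=
    Cfsg.Agent.Lib.Helper30.le_normalizer_commutator hAH hAU
  have hcc : ⁅H₁, U⁆ = H₁ :=
    Cfsg.Agent.Lib.Helper30.commutator_commutator_eq hUH hcop.symm (Or.inr hsolv)
  have hH₁ne : H₁ ≠ ⊥ := by
    intro h
    apply hnc
    rw [hH₁, commutator_eq_bot_iff_le_centralizer] at h
    exact le_centralizer_iff.1 h
  have hsolv₁ : Group.IsSolvable H₁ :=
    Group.isSolvable_of_isSolvable_injective (inclusion_injective hH₁H)
  have hnt : Nontrivial H₁ := (nontrivial_iff_ne_bot H₁).2 hH₁ne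
  have hder : ⁅H₁, H₁⁆ ≠ H₁ := by
    intro h
    have h1 := Group.IsSolvable.commutator_lt_top_of_nontrivial H₁
    have h2 : (commutator H₁).map H₁.subtype = ⁅H₁, H₁⁆ := by
      rw [_root_.commutator_def, map_commutator, ← MonoidHom.range_eq_map, H₁.range_subtype]
    apply h1.ne
    apply Subgroup.map_injective H₁.subtype_injective
    rw [h2, h, ← MonoidHom.range_eq_map, H₁.range_subtype]
  have hderle : ⁅H₁, H₁⁆ ≤ H₁ := commutator_le.2 (fun a ha b hb =>
    H₁.mul_mem (H₁.mul_mem (H₁.mul_mem ha hb) (H₁.inv_mem ha)) (H₁.inv_mem hb))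
  obtain ⟨N, hN, hNmax⟩ := (Set.toFinite {M : Subgroup X | ⁅H₁, H₁⁆ ≤ M ∧ M ≤ H₁ ∧ M ≠ H₁ ∧
    U ⊔ E ≤ normalizer (M : Set X)}).exists_maximal
      ⟨⁅H₁, H₁⁆, le_rfl, hderle, hder, Cfsg.Agent.Lib.Helper30.le_normalizer_commutator hAH₁ hAH₁⟩
  obtain ⟨hcomm, hNH, hN3, hAN⟩ := hN
  have hmax : ∀ M : Subgroup X, N ≤ M → M ≤ H₁ → U ⊔ E ≤ normalizer (M : Set X) → M = N ∨ M = H₁ := by
    intro M hNM hMH hAM
    by_cases hM : M = H₁
    · exact Or.inr hM
    · left
      exact le_antisymm (hNmax ⟨hcomm.trans hNM, hMH, hM, hAM⟩ hNM) hNM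
  have hHN : H₁ ≤ normalizer (N : Set X) := by
    apply le_normalizer_of_conj_mem
    intro h hh n hn
    have h1 : ⁅h, n⁆ ∈ N := hcomm (commutator_mem_commutator hh (hNH hn))
    have h2 : h * n * h⁻¹ = ⁅h, n⁆ * n := by
      rw [commutatorElement_def]; group
    rw [h2]
    exact N.mul_mem h1 hn
  haveI hn : (N.subgroupOf H₁).Normal := (normal_subgroupOf_iff_le_normalizer hNH).2 hHN
  have hAD : U ⊔ E ≤ Dn H₁ N := le_inf hAH₁ hAN
  have hUA : U ≤ U ⊔ E := le_sup_left
  have hEA : E ≤ U ⊔ E := le_sup_right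
  have hxA : x ∈ U ⊔ E := hEA (mem_zpowers x)
  haveI hUn : (U.subgroupOf (U ⊔ E)).Normal :=
    (normal_subgroupOf_iff_le_normalizer hUA).2 hAU
  have hnil' : Group.IsNilpotent ↥(U.subgroupOf (U ⊔ E)) :=
    Group.nilpotent_of_mulEquiv (subgroupOfEquivOfLe hUA).symm
  have hc : ∀ a b : H₁ ⧸ N.subgroupOf H₁, a * b = b * a := by
    intro a b
    induction a using QuotientGroup.induction_on with
    | H a =>
      induction b using QuotientGroup.induction_on with
      | H b =>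
        rw [← QuotientGroup.mk_mul, ← QuotientGroup.mk_mul, QuotientGroup.eq, mem_subgroupOf]
        have h1 : ⁅(b : X)⁻¹, (a : X)⁻¹⁆ ∈ N :=
          hcomm (commutator_mem_commutator (H₁.inv_mem b.2) (H₁.inv_mem a.2))
        have h2 : (((a * b)⁻¹ * (b * a) : H₁) : X) = ⁅(b : X)⁻¹, (a : X)⁻¹⁆ := by
          rw [commutatorElement_def]
          simp only [Subgroup.coe_mul, Subgroup.coe_inv, mul_inv_rev, inv_inv]
          group
        rw [h2]
        exact h1
  let φ : ↥(U ⊔ E) →* MulAut (H₁ ⧸ N.subgroupOf H₁) := (act H₁ N).comp (inclusion hAD)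
  have hq := card_quot_mul H₁ N hNH
  have hcopQ : (Nat.card (H₁ ⧸ N.subgroupOf H₁)).Coprime (Nat.card ↥(U.subgroupOf (U ⊔ E))) := by
    rw [Nat.card_congr (subgroupOfEquivOfLe hUA).toEquiv]
    exact Nat.Coprime.coprime_dvd_left ((Dvd.intro _ hq).trans (card_dvd_of_le hH₁H)) hcop
  let x' : ↥(U ⊔ E) := ⟨x, hxA⟩
  have hord : orderOf x' = orderOf x := by
    rw [← Subgroup.orderOf_coe]
  obtain ⟨v, hv⟩ := abs_exists_prod_ne_one' hc (U.subgroupOf (U ⊔ E)) x' hnil'
    (by
      intro e he he1 u hu heu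
      have he' : (e : X) ∈ E := by
        obtain ⟨k, rfl⟩ := mem_zpowers_iff.1 he
        have h5 : ((x' ^ k : ↥(U ⊔ E)) : X) = x ^ k := by simp [x']
        rw [h5]
        exact zpow_mem (mem_zpowers x) k
      have := hfpf e.1 he' (fun h => he1 (Subtype.ext h)) u.1
        (mem_subgroupOf.1 hu) (congrArg Subtype.val heu)
      exact Subtype.ext this)
    φ hcopQ
    (by
      intro S hS
      have h1 : U ⊔ E ≤ normalizer (pre H₁ N S : Set X) :=
        le_normalizer_pre H₁ N hAD S (fun b hb v hv => hS ⟨b, hb⟩ v hv)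
      rcases hmax (pre H₁ N S) (le_pre H₁ N hNH S) (pre_le H₁ N S) h1 with h2 | h2
      · exact Or.inl (pre_eq_left_iff H₁ N hNH S h2)
      · exact Or.inr (pre_eq_right_iff H₁ N S h2))
    (by
      by_contra hcon
      push Not at hcon
      apply hN3
      apply le_antisymm hNH
      rw [← hcc, commutator_le]
      intro h hh u hu
      have h1 := hcon ⟨u, hUA hu⟩ (mem_subgroupOf.2 hu)
      have h2 : act H₁ N ⟨u, hAD (hUA hu)⟩ ((⟨h, hh⟩ : H₁) : H₁ ⧸ N.subgroupOf H₁)
          = ((⟨h, hh⟩ : H₁) : H₁ ⧸ N.subgroupOf H₁) := by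
        have h3 : act H₁ N ⟨u, hAD (hUA hu)⟩ = 1 := h1
        rw [h3, MulAut.one_apply]
      rw [act_mk_eq_iff] at h2
      have h4 : ⁅h, u⁆ = h * ((h : X)⁻¹ * u * h * u⁻¹)⁻¹ * h⁻¹ := by
        rw [commutatorElement_def]; group
      rw [h4]
      exact (mem_normalizer_iff.1 (hHN hh) _).1 (N.inv_mem h2))
  rw [hord] at hv
  induction v using QuotientGroup.induction_on with
  | H h =>
    let d : Dn H₁ N := ⟨x, hAD hxA⟩
    have hφ : ∀ j : ℕ, φ (x' ^ j) = act H₁ N (d ^ j) := by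
      intro j
      rw [map_pow, map_pow]
      rfl
    have key : ∀ k : ℕ, ∃ a : H₁, (a : X) * x ^ k = ((h : X) * x) ^ k ∧
        (a : H₁ ⧸ N.subgroupOf H₁)
          = ((List.range k).map (fun j => φ (x' ^ j) (h : H₁ ⧸ N.subgroupOf H₁))).prod := by
      intro k
      induction k with
      | zero => exact ⟨1, by simp, by simp⟩
      | succ k ih =>
        obtain ⟨a, ha1, ha2⟩ := ih
        refine ⟨a * cH H₁ N (d ^ k) h, ?_, ?_⟩
        · rw [pow_succ ((h : X) * x), ← ha1, Subgroup.coe_mul, coe_cH]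
          simp only [Subgroup.coe_pow, d]
          rw [pow_succ x]
          group
        · rw [List.range_succ, List.map_append, List.prod_append, ← ha2, QuotientGroup.mk_mul]
          simp only [List.map_cons, List.map_nil, List.prod_cons, List.prod_nil, mul_one]
          rw [hφ, act_mk]
    obtain ⟨a, ha1, ha2⟩ := key (orderOf x)
    refine ⟨h, hH₁H h.2, ?_⟩
    rw [← ha1, pow_orderOf_eq_one, mul_one]
    intro h1
    apply hv
    rw [← ha2]
    have : a = 1 := Subtype.ext h1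
    rw [this, QuotientGroup.mk_one]

end Cfsg.Agent.Lib.Helper98.FW
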